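import Cfsg.Agent.Lib.AbelianSolvCent.Reduce
import Cfsg.Agent.Lib.InvCentTwoNilp.Basic
import Cfsg.Agent.Lib.Core.SolvableStruct
import Cfsg.Agent.Lib.Signalizer.Embedded
import Cfsg.Agent.S0217

/-!
# The signalizer functor and a solvable strongly embedded subgroup (S3188)

With abelian Sylow 2-subgroup `S` of rank at least three and solvable involution centralisers,
`t ↦ O(C(t))` is a balanced solvable signalizer functor on `A = Ω₁(S)`; the join `W` is odd and
`W N(S)` is solvable and strongly embedded.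
-/

set_option autoImplicit false
set_option linter.style.haveILetI false

namespace CfsgLib.AbelianSolvCent

open Subgroup CfsgLib.InvCent
open CfsgLib.Signalizer (involution_ne_one orderOf_eq_two_of)

universe u

/-- In a solvable group with abelian Sylow 2-subgroup an odd subgroup normalised by it lies in the
core. -/
theorem le_core_of_normalized {H : Type*} [Group H] [Finite H] [Group.IsSolvable H] (P : Sylow 2 H)
    (hP : IsMulCommutative ↥(P : Subgroup H)) (X : Subgroup H) (hX : Odd (Nat.card X))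
    (hn : (P : Subgroup H) ≤ normalizer (X : Set H)) : X ≤ Cfsg.oddCore H := by
  haveI : Fact (Nat.Prime 2) := ⟨Nat.prime_two⟩
  let π := QuotientGroup.mk' (Cfsg.oddCore H)
  let Pb := P.mapSurjective (f := π) (QuotientGroup.mk'_surjective _)
  have hRn := CfsgLib.Core.sylow_sup_pPrimeCore_normal_of_abelian P hP
  have hPbn : (Pb : Subgroup (H ⧸ Cfsg.oddCore H)).Normal := by
    have h := hRn.map π (QuotientGroup.mk'_surjective _)
    rwa [Subgroup.map_sup, (Subgroup.map_eq_bot_iff (Cfsg.pPrimeCore 2 H)).2 (QuotientGroup.ker_mk' _).ge, sup_bot_eq,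
      ← Sylow.coe_mapSurjective (f := π) (QuotientGroup.mk'_surjective _)] at h
  have hpc : Cfsg.pCore 2 (H ⧸ Cfsg.oddCore H) = (Pb : Subgroup (H ⧸ Cfsg.oddCore H)) := by
    haveI := hPbn
    exact le_antisymm (CfsgLib.Core.pCore_le_sylow Pb) (CfsgLib.Core.le_pCore Pb.2)
  have hC : centralizer ((Pb : Subgroup (H ⧸ Cfsg.oddCore H)) : Set (H ⧸ Cfsg.oddCore H)) ≤ Pb := by
    rw [← hpc]
    exact CfsgLib.Core.centralizer_pCore_le_of_pPrimeCore_eq_bot
      (CfsgLib.Core.pPrimeCore_quotient_pPrimeCore 2 H)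
  have hkill : ∀ y ∈ X, π y ∈ (Pb : Subgroup (H ⧸ Cfsg.oddCore H)) → π y = 1 := by
    intro y hy hmem
    obtain ⟨k, hk⟩ := IsPGroup.iff_orderOf.1 Pb.2 ⟨π y, hmem⟩
    rw [Subgroup.orderOf_mk] at hk
    have h1 : orderOf (π y) ∣ Nat.card X :=
      (orderOf_map_dvd π y).trans (Subgroup.orderOf_dvd_natCard X hy)
    rw [← orderOf_eq_one_iff]
    exact Nat.eq_one_of_dvd_coprimes ((Nat.coprime_two_right.2 hX).pow_right k) h1 (hk ▸ dvd_rfl)
  intro x hx
  rw [← QuotientGroup.eq_one_iff, ← QuotientGroup.mk'_apply]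
  refine hkill x hx (hC (mem_centralizer_iff.2 ?_))
  rintro _ ⟨s, hs, rfl⟩
  have hcX : x * (s * x⁻¹ * s⁻¹) ∈ X := mul_mem hx ((mem_normalizer_iff.1 (hn hs) x⁻¹).1 (inv_mem hx))
  have hcP : π (x * (s * x⁻¹ * s⁻¹)) ∈ (Pb : Subgroup (H ⧸ Cfsg.oddCore H)) := by
    have h1 : π x * π s * (π x)⁻¹ ∈ (Pb : Subgroup (H ⧸ Cfsg.oddCore H)) :=
      hPbn.conj_mem _ ⟨s, hs, rfl⟩ _
    have h2 := mul_mem h1 (inv_mem (show π s ∈ (Pb : Subgroup (H ⧸ Cfsg.oddCore H)) from ⟨s, hs, rfl⟩))
    simpa [mul_assoc] using h2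
  have h := hkill _ hcX hcP
  rw [map_mul, map_mul, map_mul, map_inv, map_inv, ← mul_assoc, ← mul_assoc, mul_inv_eq_one,
    mul_inv_eq_iff_eq_mul] at h
  exact h.symm

variable {G : Type u} [Group G] [Finite G] (hC : SolvCent G) (S : Sylow 2 G)
  (hS : IsMulCommutative ↥(S : Subgroup G))

include hS in
omit [Finite G] in
theorem sylow_comm {a b : G} (ha : a ∈ (S : Subgroup G)) (hb : b ∈ (S : Subgroup G)) : a * b = b * a :=
  congrArg Subtype.val (hS.is_comm.comm ⟨a, ha⟩ ⟨b, hb⟩)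

include hS in
omit [Finite G] in
theorem sylow_le_centralizer {a : G} (ha : a ∈ (S : Subgroup G)) :
    (S : Subgroup G) ≤ centralizer ({a} : Set G) :=
  fun _ hs => mem_centralizer_singleton_iff.2 (sylow_comm S hS hs ha)

/-- `Ω₁(S)`. -/
def omegaS : Subgroup G where
  carrier := {x | x ∈ (S : Subgroup G) ∧ x * x = 1}
  one_mem' := ⟨one_mem _, one_mul 1⟩
  mul_mem' := by
    rintro a b ⟨ha, ha'⟩ ⟨hb, hb'⟩
    refine ⟨mul_mem ha hb, ?_⟩
    rw [mul_assoc, ← mul_assoc b a b, sylow_comm S hS hb ha, mul_assoc a b b, hb', mul_one, ha']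
  inv_mem' := by
    rintro a ⟨ha, ha'⟩
    exact ⟨inv_mem ha, by rw [← mul_inv_rev, ha', inv_one]⟩

include hC hS in
theorem balance {a b : G} (ha : a ∈ (S : Subgroup G)) (hb : b ∈ (S : Subgroup G)) (hb2 : orderOf b = 2) :
    theta a ⊓ centralizer ({b} : Set G) ≤ theta b := by
  haveI := hC b hb2
  have hSb := sylow_le_centralizer S hS hb
  set X : Subgroup ↥(centralizer ({b} : Set G)) := (theta a).subgroupOf _ with hX
  have hXodd : Odd (Nat.card X) := by
    have hd : Nat.card X ∣ Nat.card (theta a) := by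
      rw [Nat.card_congr (X.equivMapOfInjective _ (subtype_injective _)).toEquiv]
      exact card_dvd_of_le (by rw [hX, subgroupOf_map_subtype]; exact inf_le_left)
    exact (odd_card_theta a).of_dvd_nat hd
  have h := le_core_of_normalized (S.subtype hSb)
    ⟨⟨fun x y => Subtype.ext (Subtype.ext (sylow_comm S hS x.2 y.2))⟩⟩ X hXodd (fun s hs => ?_)
  · rintro x ⟨hx, hxb⟩
    exact ⟨⟨x, hxb⟩, h hx, rfl⟩
  · rw [mem_normalizer_iff]
    intro x
    exact mem_normalizer_iff.1 (le_normalizer_theta a (sylow_le_centralizer S hS ha hs)) x.1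

/-- The join of the `θ(a)`. -/
def W : Subgroup G := ⨆ a : {a : G // a ∈ omegaS S hS ∧ a ≠ 1}, theta (a : G)

theorem orderOf_omega {a : G} (ha : a ∈ omegaS S hS) (ha1 : a ≠ 1) : orderOf a = 2 :=
  orderOf_eq_two_of ha1 ha.2

include hC in
theorem odd_W (h8 : 8 ≤ Nat.card (omegaS S hS)) : Odd (Nat.card (W S hS)) := by
  haveI : Fact (Nat.Prime 2) := ⟨Nat.prime_two⟩
  have h := (Cfsg.Agent.S0217.result (p := 2) (omegaS S hS)
    (fun a ha b hb => sylow_comm S hS ha.1 hb.1)
    (fun a ha => by rw [pow_two]; exact ha.2) (by norm_num; exact h8) theta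
    (fun a _ _ => theta_le a) (fun a _ _ h2 => (odd_card_theta a).not_two_dvd_nat h2)
    (fun a ha _ b hb x hx =>
      (mem_normalizer_iff.1 (le_normalizer_theta a (sylow_le_centralizer S hS ha.1 hb.1)) x).1 hx)
    (fun a _ _ => isSolvable_theta a)
    (fun a ha _ b hb hb1 => balance hC S hS ha.1 hb.1 (orderOf_omega S hS hb hb1))).1
  exact Nat.not_even_iff_odd.1 fun he => h he.two_dvd

theorem normalizer_le_normalizer_W :
    normalizer ((S : Subgroup G) : Set G) ≤ normalizer (W S hS : Set G) := by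
  intro n hn
  have key : ∀ m ∈ normalizer ((S : Subgroup G) : Set G),
      (W S hS).map (MulAut.conj m).toMonoidHom ≤ W S hS := by
    intro m hm
    rw [W, Subgroup.map_iSup]
    refine iSup_le fun a => ?_
    rw [← theta_map_conj]
    refine le_iSup (fun a : {a : G // a ∈ omegaS S hS ∧ a ≠ 1} => theta (a : G))
      ⟨m * a * m⁻¹, ⟨(mem_normalizer_iff.1 hm _).1 a.2.1.1, ?_⟩, fun e => a.2.2 (conj_eq_one_iff.1 e)⟩
    rw [show m * a * m⁻¹ * (m * a * m⁻¹) = m * (a * a) * m⁻¹ by group, a.2.1.2]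
    group
  rw [mem_normalizer_iff]
  intro x
  refine ⟨fun hx => key n hn ⟨x, hx, rfl⟩, fun hx => ?_⟩
  have h := key n⁻¹ (inv_mem hn) ⟨_, hx, rfl⟩
  simpa [mul_assoc] using h

include hC in
theorem centralizer_le {a : G} (ha : a ∈ omegaS S hS) (ha1 : a ≠ 1) :
    centralizer ({a} : Set G) ≤ normalizer ((S : Subgroup G) : Set G) ⊔ W S hS := by
  haveI : Fact (Nat.Prime 2) := ⟨Nat.prime_two⟩
  haveI := hC a (orderOf_omega S hS ha ha1)
  have hSa := sylow_le_centralizer S hS ha.1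
  set C := centralizer ({a} : Set G)
  set P := S.subtype hSa with hP
  have hn := CfsgLib.Core.sylow_sup_pPrimeCore_normal_of_abelian P
    ⟨⟨fun x y => Subtype.ext (Subtype.ext (sylow_comm S hS x.2 y.2))⟩⟩
  haveI := hn
  have htop := Sylow.normalizer_sup_eq_top' (N := (P : Subgroup C) ⊔ Cfsg.pPrimeCore 2 C) P le_sup_left
  have hPn : (P : Subgroup C) ≤ normalizer ((P : Sylow 2 C) : Set C) := le_normalizer
  rw [← sup_assoc, sup_eq_left.2 hPn] at htop
  have h := congrArg (Subgroup.map C.subtype) htop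
  rw [Subgroup.map_sup, ← MonoidHom.range_eq_map, range_subtype] at h
  refine le_of_eq_of_le h.symm (sup_le_sup ?_ ?_)
  · rintro _ ⟨x, hx, rfl⟩
    have hle : Subgroup.map C.subtype (P : Subgroup C) = (S : Subgroup G) := by
      rw [hP, Sylow.coe_subtype, subgroupOf_map_subtype, inf_of_le_left hSa]
    rw [← hle]
    exact le_normalizer_map _ ⟨x, hx, rfl⟩
  · exact le_iSup (fun a : {a : G // a ∈ omegaS S hS ∧ a ≠ 1} => theta (a : G)) ⟨a, ha, ha1⟩

include hC hS in
/-- A strongly embedded solvable subgroup. -/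
theorem exists_solvable_embedded (hns : ¬ Group.IsSolvable G) (h8 : 8 ≤ Nat.card (omegaS S hS)) :
    ∃ M : Subgroup G, Cfsg.IsStronglyEmbedded M ∧ Group.IsSolvable M ∧ (S : Subgroup G) ≤ M := by
  classical
  haveI : Fact (Nat.Prime 2) := ⟨Nat.prime_two⟩
  set N := normalizer ((S : Subgroup G) : Set G) with hN
  set M := N ⊔ W S hS with hMdef
  obtain ⟨a₀, ha₀, ha₀1⟩ := (omegaS S hS).bot_or_exists_ne_one.resolve_left fun e => by
    rw [e, Subgroup.card_bot] at h8; omega
  -- `N(S)` is solvable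
  haveI : Group.IsSolvable N := by
    haveI : ((S : Subgroup G).subgroupOf N).Normal := normal_in_normalizer
    haveI : Group.IsSolvable ((S : Subgroup G).subgroupOf N) := Group.isSolvable_of_comm fun x y =>
      Subtype.ext (Subtype.ext (sylow_comm S hS x.2 y.2))
    haveI : Group.IsSolvable (N ⧸ (S : Subgroup G).subgroupOf N) := Cfsg.Agent.S0205.result (by
      rw [← Subgroup.index_eq_card, Nat.odd_iff]
      have h : ¬ 2 ∣ ((S : Subgroup G).subgroupOf N).index := fun h2 =>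
        S.not_dvd_index (h2.trans ((S : Subgroup G).relIndex_dvd_index_of_le le_normalizer))
      omega)
    exact CfsgLib.OddGated.isSolvable_of_normal ((S : Subgroup G).subgroupOf N) inferInstance
      inferInstance
  haveI hMsol : Group.IsSolvable M := by
    have hMn : M ≤ normalizer (W S hS : Set G) := sup_le (normalizer_le_normalizer_W S hS) le_normalizer
    haveI : ((W S hS).subgroupOf M).Normal := normal_subgroupOf_of_le_normalizer hMn
    haveI : Group.IsSolvable ((W S hS).subgroupOf M) := Cfsg.Agent.S0205.result (by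
      rw [Nat.card_congr (subgroupOfEquivOfLe le_sup_right).toEquiv]; exact odd_W hC S hS h8)
    let f : N →* M ⧸ (W S hS).subgroupOf M :=
      (QuotientGroup.mk' _).comp (inclusion (le_sup_left : N ≤ M))
    have hf : Function.Surjective f := by
      intro y
      obtain ⟨⟨m, hm⟩, rfl⟩ := QuotientGroup.mk'_surjective _ y
      obtain ⟨n, hn, w, hw, rfl⟩ :=
        (CfsgLib.Core.mem_sup_iff_mul (normalizer_le_normalizer_W S hS)).1 hm
      refine ⟨⟨n, hn⟩, (QuotientGroup.mk'_eq_mk' ((W S hS).subgroupOf M)).2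
        ⟨⟨w, mem_sup_right hw⟩, hw, ?_⟩⟩
      exact Subtype.ext rfl
    haveI := Group.isSolvable_of_surjective hf
    exact CfsgLib.OddGated.isSolvable_of_normal ((W S hS).subgroupOf M) inferInstance inferInstance
  have hSM : (S : Subgroup G) ≤ M := le_trans le_normalizer le_sup_left
  refine ⟨M, ?_, hMsol, hSM⟩
  rw [CfsgLib.Signalizer.stronglyEmbedded_iff_conj]
  refine ⟨fun htop => hns ?_, even_iff_two_dvd.2 ?_, fun t htM ht g hg => ?_⟩
  · haveI : Group.IsSolvable (⊤ : Subgroup G) := htop ▸ hMsol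
    exact Group.isSolvable_of_surjective (f := Subgroup.topEquiv.toMonoidHom)
      (MulEquiv.surjective _)
  · exact (orderOf_omega S hS ha₀ ha₀1) ▸ Subgroup.orderOf_dvd_natCard _ (hSM ha₀.1)
  -- into `S` inside `M`
  have hin : ∀ x ∈ M, orderOf x = 2 → ∃ m ∈ M, m * x * m⁻¹ ∈ (S : Subgroup G) := by
    intro x hxM hx
    have hp : IsPGroup 2 (zpowers (⟨x, hxM⟩ : M)) :=
      CfsgLib.Signalizer.isPGroup_zpowers_involution (by rw [Subgroup.orderOf_mk]; exact hx)
    obtain ⟨Q, hQ⟩ := hp.exists_le_sylow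
    obtain ⟨m, hm⟩ := MulAction.exists_smul_eq M Q (S.subtype hSM)
    have h1 : m * ⟨x, hxM⟩ * m⁻¹ ∈ (S.subtype hSM : Subgroup M) := by
      rw [← hm, Sylow.coe_subgroup_smul]
      exact ⟨⟨x, hxM⟩, hQ (mem_zpowers _), rfl⟩
    exact ⟨m, m.2, h1⟩
  obtain ⟨m, hm, hmT⟩ := hin t htM ht
  obtain ⟨m', hm', hm'T⟩ := hin _ hg ((CfsgLib.Signalizer.orderOf_conj g t).trans ht)
  set k := m' * g * m⁻¹
  have hk' : (k⁻¹)⁻¹ * (m * t * m⁻¹) * k⁻¹ ∈ (S : Subgroup G) := by
    rw [show (k⁻¹)⁻¹ * (m * t * m⁻¹) * k⁻¹ = m' * (g * t * g⁻¹) * m'⁻¹ by simp [k]; group]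
    exact hm'T
  obtain ⟨n, hn, hne⟩ := Sylow.conj_eq_normalizer_conj_of_mem S (_hP := hS) (m * t * m⁻¹) k⁻¹ hmT hk'
  have hs2 : orderOf (m * t * m⁻¹) = 2 := (CfsgLib.Signalizer.orderOf_conj m t).trans ht
  have hsA : m * t * m⁻¹ ∈ omegaS S hS :=
    ⟨hmT, by rw [← pow_two, ← hs2]; exact pow_orderOf_eq_one _⟩
  have hnk : n * k ∈ centralizer ({m * t * m⁻¹} : Set G) := by
    rw [mem_centralizer_singleton_iff]
    rw [inv_inv] at hne
    calc n * k * (m * t * m⁻¹) = n * (k * (m * t * m⁻¹) * k⁻¹) * k := by group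
      _ = n * (n⁻¹ * (m * t * m⁻¹) * n) * k := by rw [hne]
      _ = (m * t * m⁻¹) * (n * k) := by group
  have hnkM : n * k ∈ M := centralizer_le hC S hS hsA (involution_ne_one hs2) hnk
  have hkM : k ∈ M := by
    have := mul_mem (inv_mem (mem_sup_left hn : n ∈ M)) hnkM
    simpa using this
  rw [show g = m'⁻¹ * k * m by simp [k]; group]
  exact mul_mem (mul_mem (inv_mem hm') hkM) hm

end CfsgLib.AbelianSolvCent
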