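import Cfsg.Agent.Lib.Lie.RankOneClass.Regular
import Cfsg.Agent.Lib.Lie.RankOneClass.Classify

/-!
# An abelian regular normal subgroup leaves `PSL(2, 2ⁿ)` (S3188)
-/

set_option autoImplicit false
set_option linter.style.haveILetI false

namespace CfsgLib.AbelianSolvCent

open MulAction CfsgLib.Lie.RankOneClass CfsgLib.Lie.RankOne CfsgLib.OddTransitive.RankOne

variable {G : Type*} [Group G] [Finite G] [IsSimpleGroup G]

theorem psl_of_regular_abelian (H : Subgroup G) (hH : Cfsg.IsStronglyEmbedded H) (Q : Subgroup G)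
    (hQH : Q ≤ H) (hQn : (Q.subgroupOf H).Normal)
    (htrans : ∀ g₁ g₂ : G, g₁ ∉ H → g₂ ∉ H → ∃ u ∈ Q, g₂⁻¹ * (u * g₁) ∈ H)
    (hreg : ∀ g : G, g ∉ H → ∀ u ∈ Q, g⁻¹ * (u * g) ∈ H → u = 1)
    (hab : ∀ x ∈ Q, ∀ y ∈ Q, x * y = y * x) :
    ∃ (F : Type) (_ : Field F) (_ : Fintype F), (∃ n : ℕ, 2 ≤ n ∧ Fintype.card F = 2 ^ n) ∧
      Nonempty (G ≃* Matrix.ProjectiveSpecialLinearGroup (Fin 2) F) := by
  obtain ⟨t, hS, hF, hGeven, h2⟩ :=
    CfsgLib.Lie.RankOneClass.exists_setup H hH Q hQH hQn htrans hreg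
  haveI := hF
  haveI := faithful_subgroup hS (core t Q)
  have hS' := setup_subgroup hS (core t Q) Q_le_core t_mem_core
  have hn := closure_normal_odd hS h2
  have h2' := two_rank_subgroup hS (core t Q) hn.1 t_mem_core h2
  have hab' : ∀ x ∈ Q.subgroupOf (core t Q), ∀ y ∈ Q.subgroupOf (core t Q), x * y = y * x :=
    fun x hx y hy => Subtype.ext (hab _ (Subgroup.mem_subgroupOf.1 hx) _ (Subgroup.mem_subgroupOf.1 hy))
  rcases trichotomy hS' h2' noExt_core (centShape_of_setup hS' h2') with h | ⟨h, -, -⟩ | ⟨h, -, -, -⟩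
  · rw [Nat.card_congr (Subgroup.subgroupOfEquivOfLe Q_le_core).toEquiv,
      qq_subgroup hS (core t Q) hn.1 t_mem_core] at h
    obtain ⟨F, iF, iFt, hcard, ⟨e⟩⟩ := exists_psl_of_card_eq hS h2 h
    have htop : core t Q = ⊤ := hn.1.eq_bot_or_eq_top.resolve_left fun e0 => by
      have hodd := hn.2
      rw [show Subgroup.closure ((Q : Set G) ∪ {t}) = ⊥ from e0, Subgroup.index_bot] at hodd
      exact Nat.not_even_iff_odd.2 hodd hGeven
    exact ⟨F, iF, iFt, hcard,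
      ⟨(Subgroup.topEquiv.symm.trans (MulEquiv.subgroupCongr htop.symm)).trans e⟩⟩
  · exact absurd hab' h
  · exact absurd hab' h

end CfsgLib.AbelianSolvCent
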