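import Cfsg.Agent.Lib.AbelianSolvCent.Shapes
import Cfsg.Agent.Lib.AbelianSolvCent.Embedded
import Cfsg.Agent.Lib.AbelianSolvCent.Regular
import Cfsg.Agent.Lib.Bender.Main
import Cfsg.Agent.Lib.GW.Final
import Cfsg.Agent.Lib.Classical.SmallIso

/-!
# Abelian Sylow 2-subgroups and solvable involution centralisers (S3188)

Gorenstein-Walter settles rank two, the signalizer functor and Bender's theorem for a solvable
strongly embedded subgroup settle higher rank.
-/

set_option autoImplicit false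
set_option linter.style.haveILetI false

namespace CfsgLib.AbelianSolvCent

open Subgroup

universe u

/-- The four group case. -/
theorem four_case {G : Type u} [Group G] [Finite G] [IsSimpleGroup G] (hns : ¬ Group.IsSolvable G)
    (S : Sylow 2 G) (hV : IsKleinFour ↥(S : Subgroup G)) :
    ∃ (F : Type) (_ : Field F) (_ : Fintype F),
      ((Fintype.card F % 8 = 3 ∨ Fintype.card F % 8 = 5) ∧ 5 ≤ Fintype.card F) ∧
      Nonempty (G ≃* Matrix.ProjectiveSpecialLinearGroup (Fin 2) F) := by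
  classical
  haveI := hV
  haveI : Fact (Nat.Prime 2) := ⟨Nat.prime_two⟩
  haveI : Group.IsPerfect G := ⟨((inferInstance : (commutator G).Normal).eq_bot_or_eq_top).resolve_left
    fun h => hns (Group.isSolvable_of_comm fun a b => by
      have := commutator_mem_commutator (mem_top a) (mem_top b)
      rw [← _root_.commutator_def, h, mem_bot] at this
      exact commutatorElement_eq_one_iff_mul_comm.1 this)⟩
  have hO : Cfsg.oddCore G = ⊥ :=
    ((inferInstance : (Cfsg.oddCore G).Normal).eq_bot_or_eq_top).resolve_right fun h => hns (by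
      haveI : Group.IsSolvable (⊤ : Subgroup G) :=
        h ▸ Cfsg.Agent.S0205.result (CfsgLib.GW.DGroup.odd_oddCore G)
      exact Group.isSolvable_of_surjective (f := Subgroup.topEquiv.toMonoidHom) (MulEquiv.surjective _))
  let π : G ⧸ Cfsg.oddCore G ≃* G := (QuotientGroup.quotientMulEquivOfEq hO).trans QuotientGroup.quotientBot
  have h4 : 4 ∣ Nat.card G ∧ ¬ 8 ∣ Nat.card G := by
    refine ⟨IsKleinFour.card_four (G := ↥(S : Subgroup G)) ▸ Subgroup.card_subgroup_dvd_card _, fun h8 => ?_⟩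
    have h := S.card_eq_multiplicity
    rw [IsKleinFour.card_four] at h
    have h2 : Nat.card G ≠ 0 := Nat.card_pos.ne'
    have := (Nat.Prime.pow_dvd_iff_le_factorization (n := Nat.card G) (k := 3) Nat.prime_two h2).1 h8
    have : 2 ^ 3 ≤ 2 ^ (Nat.card G).factorization 2 := Nat.pow_le_pow_right two_pos this
    omega
  rcases CfsgLib.GW.Final.gwStatement G S 2 le_rfl IsKleinFour.nonempty_mulEquiv with
    ⟨F, iF, iFt, hodd, h3, ⟨e⟩⟩ | ⟨⟨e⟩⟩
  · refine ⟨F, iF, iFt, ⟨?_, ?_⟩, ⟨π.symm.trans e⟩⟩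
    · rw [Nat.card_congr (π.symm.trans e).toEquiv] at h4
      have hc := CfsgLib.Classical.Two.card_PSL_two (F := F)
      obtain ⟨k, hk⟩ := hodd
      rw [hk] at hc ⊢
      rw [show Nat.gcd 2 (2 * k + 1 - 1) = 2 by
        rw [Nat.add_sub_cancel]; exact Nat.gcd_eq_left (Dvd.intro k rfl)] at hc
      generalize Nat.card (Matrix.ProjectiveSpecialLinearGroup (Fin 2) F) = N at hc h4
      have hN : N = (2 * k + 1) * (2 * (k * (k + 1))) := by
        have : (2 * k + 1) ^ 2 - 1 = 4 * (k * (k + 1)) := by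
          rw [show (2 * k + 1) ^ 2 = 4 * (k * (k + 1)) + 1 by ring]; omega
        rw [this] at hc
        linarith [hc]
      subst hN
      obtain ⟨j, hj⟩ : ∃ j, k = 4 * j ∨ k = 4 * j + 1 ∨ k = 4 * j + 2 ∨ k = 4 * j + 3 :=
        ⟨k / 4, by omega⟩
      rcases hj with rfl | rfl | rfl | rfl
      · exfalso
        exact h4.2 ⟨(2 * (4 * j) + 1) * (j * (4 * j + 1)), by ring⟩
      · left; omega
      · right; omega
      · exfalso
        exact h4.2 ⟨(2 * (4 * j + 3) + 1) * ((4 * j + 3) * (j + 1)), by ring⟩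
    · obtain ⟨k, hk⟩ := hodd; omega
  · exfalso
    have hA : Nat.card (alternatingGroup (Fin 7)) = 2520 := by
      rw [nat_card_alternatingGroup, Nat.card_fin]
      decide
    rw [Nat.card_congr (π.symm.trans e).toEquiv, hA] at h4
    exact h4.2 (by norm_num)

/-- The simple case. -/
theorem simple_case {G : Type u} [Group G] [Finite G] [IsSimpleGroup G]
    (hns : ¬ Group.IsSolvable G) (hA : AbSylow G) (hC : SolvCent G) :
    ∃ (F : Type) (_ : Field F) (_ : Fintype F),
      (((Fintype.card F % 8 = 3 ∨ Fintype.card F % 8 = 5) ∧ 5 ≤ Fintype.card F) ∨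
        (∃ n : ℕ, 2 ≤ n ∧ Fintype.card F = 2 ^ n)) ∧
      Nonempty (G ≃* Matrix.ProjectiveSpecialLinearGroup (Fin 2) F) := by
  classical
  haveI : Fact (Nat.Prime 2) := ⟨Nat.prime_two⟩
  obtain ⟨S⟩ := (inferInstance : Nonempty (Sylow 2 G))
  have hodd : ∀ N : Subgroup G, Odd (Nat.card N) → Group.IsSolvable N := fun N h =>
    Cfsg.Agent.S0205.result h
  letI : CommGroup ↥(S : Subgroup G) :=
    { (inferInstance : Group ↥(S : Subgroup G)) with mul_comm := (hA S).is_comm.comm }
  rcases abelian_cases (S := ↥(S : Subgroup G)) S.2 with h | h | ⟨N, hN, hNc, hQc, hQ⟩ | h8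
  · exact absurd (CfsgLib.OddGated.isSolvable_of_complement hodd
      (CfsgLib.OddGated.complement_of_cyclic S h)) hns
  · obtain ⟨F, iF, iFt, hq, e⟩ := four_case hns S h
    exact ⟨F, iF, iFt, Or.inl hq, e⟩
  · haveI := hN
    exact absurd (CfsgLib.OddGated.isSolvable_metacyclic hodd S N hNc hQc hQ) hns
  · have hcard : Nat.card (omegaS S (hA S)) = Nat.card {x : ↥(S : Subgroup G) // x * x = 1} :=
      Nat.card_congr
        { toFun := fun x => ⟨⟨x, x.2.1⟩, Subtype.ext x.2.2⟩
          invFun := fun x => ⟨x.1, x.1.2, congrArg Subtype.val x.2⟩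
          left_inv := fun _ => rfl
          right_inv := fun _ => rfl }
    obtain ⟨M, hM, hMs, hSM⟩ := exists_solvable_embedded hC S (hA S) hns (hcard ▸ h8)
    have hcore : M.normalCore = ⊥ := M.normalCore_normal.eq_bot_or_eq_top.resolve_right
      fun h => hM.1 (top_le_iff.1 (h ▸ M.normalCore_le))
    have hfour : ∃ s ∈ M, ∃ t ∈ M, orderOf s = 2 ∧ orderOf t = 2 ∧ s ≠ t ∧ s * t = t * s := by
      obtain ⟨s, hs, hs1⟩ := (omegaS S (hA S)).bot_or_exists_ne_one.resolve_left fun e => by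
        rw [← hcard, e, Subgroup.card_bot] at h8; omega
      obtain ⟨t, ht, hts⟩ : ∃ t ∈ omegaS S (hA S), t ∉ zpowers s := by
        by_contra hcon
        push Not at hcon
        have hle := card_le_of_le (fun x hx => hcon x hx : omegaS S (hA S) ≤ zpowers s)
        rw [Nat.card_zpowers, orderOf_omega S (hA S) hs hs1, hcard] at hle
        omega
      have ht1 : t ≠ 1 := fun e => hts (e ▸ one_mem _)
      exact ⟨s, hSM hs.1, t, hSM ht.1, orderOf_omega S (hA S) hs hs1, orderOf_omega S (hA S) ht ht1,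
        fun e => hts (e ▸ mem_zpowers s), sylow_comm S (hA S) hs.1 ht.1⟩
    obtain ⟨Q, hQM, hQn, hQ2, htr, hreg, -⟩ := CfsgLib.Bender.exists_regular hM hMs hfour hcore
    obtain ⟨P, hP⟩ := hQ2.exists_le_sylow
    obtain ⟨F, iF, iFt, hn, e⟩ := psl_of_regular_abelian M hM Q hQM hQn htr hreg fun x hx y hy =>
      congrArg Subtype.val ((hA P).is_comm.comm ⟨x, hP hx⟩ ⟨y, hP hy⟩)
    exact ⟨F, iF, iFt, Or.inr hn, e⟩

/-- S3188 from the regular normal subgroup. -/
theorem main {G : Type u} [Group G] [Finite G]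
    (S : Sylow 2 G) (hS : IsMulCommutative ↥(S : Subgroup G)) (hC : SolvCent G) :
    Group.IsSolvable G ∨
      ∃ (F : Type) (_ : Field F) (_ : Fintype F),
        (((Fintype.card F % 8 = 3 ∨ Fintype.card F % 8 = 5) ∧ 5 ≤ Fintype.card F) ∨
          (∃ n : ℕ, 2 ≤ n ∧ Fintype.card F = 2 ^ n)) ∧
        ∃ N : Subgroup (G ⧸ Cfsg.oddCore G), N.Normal ∧
          Nonempty (↥N ≃* Matrix.ProjectiveSpecialLinearGroup (Fin 2) F) ∧
          Subgroup.centralizer (N : Set (G ⧸ Cfsg.oddCore G)) = ⊥ := by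
  by_cases hns : Group.IsSolvable G
  · exact Or.inl hns
  obtain ⟨N, hN, hsim, hNns, hNA, hNC, hcen⟩ := exists_socle (abSylow_of_one S hS) hC hns
  haveI := hsim
  obtain ⟨F, iF, iFt, hq, e⟩ := simple_case hNns hNA hNC
  exact Or.inr ⟨F, iF, iFt, hq, N, hN, e, hcen⟩

end CfsgLib.AbelianSolvCent
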