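import Cfsg.Agent.Lib.GW.DGroup.Main
import Cfsg.Agent.Lib.PGroups.OneClass.Length
import Cfsg.Agent.Lib.Perm.CharSimple
import Cfsg.Agent.Lib.Core.MinNormal
import Cfsg.Agent.Lib.Components.Subnormal
import Cfsg.Agent.S0205

/-!
# Abelian Sylow 2-subgroups and solvable involution centralisers: the simple socle (S3188)

A non-solvable group of this kind is, modulo its odd core, almost simple with a socle of the same
kind.
-/

set_option autoImplicit false
set_option linter.style.haveILetI false

namespace CfsgLib.AbelianSolvCent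

open Subgroup

universe u

/-- Every involution centraliser is solvable. -/
def SolvCent (G : Type u) [Group G] : Prop :=
  ∀ t : G, orderOf t = 2 → Group.IsSolvable ↥(centralizer ({t} : Set G))

/-- The Sylow `2`-subgroups are abelian. -/
def AbSylow (G : Type u) [Group G] : Prop :=
  ∀ P : Sylow 2 G, IsMulCommutative ↥(P : Subgroup G)

variable {G : Type u} [Group G] [Finite G]

theorem exists_involution {H : Type*} [Group H] [Finite H] (hH : ¬ Group.IsSolvable H) :
    ∃ t : H, orderOf t = 2 := by
  haveI : Fact (Nat.Prime 2) := ⟨Nat.prime_two⟩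
  exact exists_prime_orderOf_dvd_card' 2 (even_iff_two_dvd.1 (Nat.not_odd_iff_even.1 fun h =>
    hH (Cfsg.Agent.S0205.result h)))

theorem solvCent_quotient (hC : SolvCent G) : SolvCent (G ⧸ Cfsg.oddCore G) := by
  intro x hx
  obtain ⟨a, ha, rfl⟩ := CfsgLib.PGroups.OneClass.exists_lift _ (CfsgLib.GW.DGroup.odd_oddCore G)
    (show x ^ 2 = 1 by have := pow_orderOf_eq_one x; rwa [hx] at this)
  have ha1 : a ≠ 1 := by
    rintro rfl
    rw [QuotientGroup.mk_one, orderOf_one] at hx
    norm_num at hx
  have ha2 := CfsgLib.Signalizer.orderOf_eq_two_of ha1 (by rw [← pow_two]; exact ha)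
  haveI := hC a ha2
  rw [← QuotientGroup.mk'_apply, ← CfsgLib.GW.DGroup.map_centralizer_singleton ha2]
  exact Group.isSolvable_of_surjective (MonoidHom.subgroupMap_surjective _ _)

theorem abSylow_of_one (S : Sylow 2 G) (hS : IsMulCommutative ↥(S : Subgroup G)) : AbSylow G := by
  intro P
  haveI : Fact (Nat.Prime 2) := ⟨Nat.prime_two⟩
  exact ⟨⟨fun a b => (P.equiv S).injective (by rw [map_mul, map_mul]; exact hS.is_comm.comm _ _)⟩⟩

theorem abSylow_of_surjective {K : Type u} [Group K] [Finite K] (hS : AbSylow G) (f : G →* K)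
    (hf : Function.Surjective f) : AbSylow K := by
  haveI : Fact (Nat.Prime 2) := ⟨Nat.prime_two⟩
  obtain ⟨S⟩ := (inferInstance : Nonempty (Sylow 2 G))
  refine abSylow_of_one (S.mapSurjective hf) ⟨⟨?_⟩⟩
  rintro ⟨_, a, ha, rfl⟩ ⟨_, b, hb, rfl⟩
  refine Subtype.ext ?_
  show f a * f b = f b * f a
  rw [← map_mul, ← map_mul]
  exact congrArg f (congrArg Subtype.val ((hS S).is_comm.comm ⟨a, ha⟩ ⟨b, hb⟩))

theorem abSylow_subgroup (hS : AbSylow G) (N : Subgroup G) : AbSylow N := by
  haveI : Fact (Nat.Prime 2) := ⟨Nat.prime_two⟩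
  intro P
  obtain ⟨S, hPS⟩ := (P.2.map N.subtype).exists_le_sylow
  refine ⟨⟨fun a b => Subtype.ext (N.subtype_injective ?_)⟩⟩
  rw [Subgroup.coe_mul, Subgroup.coe_mul, map_mul, map_mul]
  exact congrArg Subtype.val ((hS S).is_comm.comm ⟨_, hPS ⟨a, a.2, rfl⟩⟩ ⟨_, hPS ⟨b, b.2, rfl⟩⟩)

theorem solvCent_subgroup (hC : SolvCent G) (N : Subgroup G) : SolvCent N := by
  intro t ht
  haveI := hC (t : G) (by rw [Subgroup.orderOf_coe]; exact ht)
  have hle : (centralizer ({t} : Set N)).map N.subtype ≤ centralizer ({(t : G)} : Set G) := by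
    rintro _ ⟨x, hx, rfl⟩
    exact mem_centralizer_singleton_iff.2 (congrArg Subtype.val (mem_centralizer_singleton_iff.1 hx))
  exact Group.isSolvable_of_isSolvable_injective
    (f := (inclusion hle).comp ((centralizer ({t} : Set N)).equivMapOfInjective _ N.subtype_injective).toMonoidHom)
    ((inclusion_injective hle).comp (MulEquiv.injective _))

/-- Commuting non-solvable subgroups do not occur. -/
theorem not_commuting (hC : SolvCent G) {M N : Subgroup G} (hM : ¬ Group.IsSolvable M)
    (hN : ¬ Group.IsSolvable N) (h : ∀ m ∈ M, ∀ n ∈ N, n * m = m * n) : False := by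
  obtain ⟨t, ht⟩ := exists_involution hM
  haveI := hC (t : G) (by rw [Subgroup.orderOf_coe]; exact ht)
  have hle : N ≤ centralizer ({(t : G)} : Set G) := fun n hn =>
    mem_centralizer_singleton_iff.2 (h t t.2 n hn)
  exact hN (Group.isSolvable_of_isSolvable_injective (f := inclusion hle) (inclusion_injective hle))

/-- Minimal normal subgroups are not solvable. -/
theorem not_isSolvable_minimal (hS : AbSylow G) (hC : SolvCent G) (hns : ¬ Group.IsSolvable G)
    (hO : Cfsg.oddCore G = ⊥) (M : Subgroup G) [M.Normal] (hM : M ≠ ⊥)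
    (hmin : ∀ L : Subgroup G, L.Normal → L ≤ M → L = ⊥ ∨ L = M) : ¬ Group.IsSolvable M := by
  intro hs
  haveI : Fact (Nat.Prime 2) := ⟨Nat.prime_two⟩
  have hc := CfsgLib.Core.commutative_of_minimal_normal M hs hM hmin
  obtain ⟨p, hp, hpM⟩ := CfsgLib.Core.exists_prime_pow_eq_one_of_minimal_normal M hc hM hmin
  have hpgroup : IsPGroup p M := fun x => ⟨1, Subtype.ext (by rw [pow_one]; exact hpM x x.2)⟩
  haveI := Fact.mk hp
  by_cases hp2 : p = 2
  · subst hp2
    obtain ⟨S⟩ := (inferInstance : Nonempty (Sylow 2 G))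
    have hMS : M ≤ (S : Subgroup G) := by
      obtain ⟨P, hP⟩ := hpgroup.exists_le_sylow
      obtain ⟨g, rfl⟩ := MulAction.exists_smul_eq G P S
      intro x hx
      rw [Sylow.coe_subgroup_smul]
      exact ⟨g⁻¹ * x * g, hP (by
        simpa using (inferInstance : M.Normal).conj_mem x hx g⁻¹),
        by simp [MulAut.conj_apply, mul_assoc]⟩
    have hSC : (S : Subgroup G) ≤ centralizer (M : Set G) := fun a ha => mem_centralizer_iff.2
      fun m hm => congrArg Subtype.val ((hS S).is_comm.comm ⟨m, hMS hm⟩ ⟨a, ha⟩)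
    haveI : (centralizer (M : Set G)).Normal := inferInstance
    have hodd : Odd (Nat.card (G ⧸ centralizer (M : Set G))) := by
      rw [← Subgroup.index_eq_card, Nat.odd_iff]
      have : ¬ 2 ∣ (centralizer (M : Set G)).index := fun h =>
        S.not_dvd_index (h.trans (Subgroup.index_dvd_of_le hSC))
      omega
    obtain ⟨x, hx, hx1⟩ := M.bot_or_exists_ne_one.resolve_left hM
    have hx2 := CfsgLib.Signalizer.orderOf_eq_two_of hx1 (by rw [← pow_two]; exact hpM x hx)
    haveI := hC x hx2
    have hle : centralizer (M : Set G) ≤ centralizer ({x} : Set G) :=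
      centralizer_le (Set.singleton_subset_iff.2 hx)
    haveI : Group.IsSolvable ↥(centralizer (M : Set G)) :=
      Group.isSolvable_of_isSolvable_injective (f := inclusion hle) (inclusion_injective hle)
    haveI : Group.IsSolvable (G ⧸ centralizer (M : Set G)) := Cfsg.Agent.S0205.result hodd
    exact CfsgLib.GW.DGroup.not_isSolvable_quotient (centralizer (M : Set G)) inferInstance hns
      inferInstance
  · refine hM (le_bot_iff.1 (hO ▸ CfsgLib.ZStar.le_oddCore inferInstance ?_))
    obtain ⟨k, hk⟩ := IsPGroup.iff_card.1 hpgroup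
    rw [hk]
    exact (hp.odd_of_ne_two hp2).pow

/-- The socle of a group with trivial odd core. -/
theorem exists_socle_of_core (hS : AbSylow G) (hC : SolvCent G) (hns : ¬ Group.IsSolvable G)
    (hO : Cfsg.oddCore G = ⊥) :
    ∃ N : Subgroup G, N.Normal ∧ IsSimpleGroup N ∧ ¬ Group.IsSolvable N ∧
      AbSylow N ∧ SolvCent N ∧ centralizer (N : Set G) = ⊥ := by
  classical
  haveI : Nontrivial G := by
    by_contra h
    haveI := not_nontrivial_iff_subsingleton.1 h
    exact hns inferInstance
  obtain ⟨N, hN, hN1, hmin⟩ := CfsgLib.Components.exists_minimal_normal (G := G)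
  haveI := hN
  have hNns := not_isSolvable_minimal hS hC hns hO N hN1 hmin
  refine ⟨N, hN, ?_, hNns, abSylow_subgroup hS N, solvCent_subgroup hC N, ?_⟩
  · obtain ⟨T, _, m, hT, hm, ⟨e⟩⟩ := CfsgLib.Perm.CharSimple.exists_iso_pi_of_minimal_normal N hN1 hmin
    haveI : Finite T := Finite.of_surjective (fun x => e x ⟨0, hm⟩)
      fun y => ⟨e.symm fun _ => y, by simp⟩
    have hTns : ¬ Group.IsSolvable T := fun h => hNns (by
      haveI := h
      haveI : IsMulCommutative T := ⟨⟨IsSimpleGroup.comm_iff_isSolvable.2 h⟩⟩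
      exact Group.isSolvable_of_comm fun a b => e.injective (funext fun i => by
        rw [map_mul, map_mul]; exact mul_comm' _ _))
    rcases Nat.lt_or_ge m 2 with h2 | h2
    · obtain rfl : m = 1 := by omega
      haveI : Nontrivial N := N.nontrivial_iff_ne_bot.mpr hN1
      exact IsSimpleGroup.isSimpleGroup_of_surjective
        (e.trans (MulEquiv.piUnique fun _ : Fin 1 => T)).symm.toMonoidHom (MulEquiv.surjective _)
    · exfalso
      let f : Fin m → (T →* G) := fun i =>
        N.subtype.comp (e.symm.toMonoidHom.comp (MonoidHom.mulSingle (fun _ => T) i))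
      have hf : ∀ i, ¬ Group.IsSolvable (f i).range := fun i h => by
        haveI := h
        refine hTns (Group.isSolvable_of_isSolvable_injective (f := (f i).rangeRestrict) ?_)
        exact (f i).rangeRestrict_injective_iff.2 (N.subtype_injective.comp (e.symm.injective.comp
          (Pi.mulSingle_injective (M := fun _ : Fin m => T) i)))
      refine not_commuting hC (hf ⟨0, by omega⟩) (hf ⟨1, by omega⟩) ?_
      rintro _ ⟨a, rfl⟩ _ ⟨b, rfl⟩
      exact ((Pi.mulSingle_commute (show (⟨1, by omega⟩ : Fin m) ≠ ⟨0, by omega⟩ by simp) b a).map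
        (N.subtype.comp e.symm.toMonoidHom)).eq
  · by_contra hC1
    obtain ⟨M, hM, hM1, hMle, hMmin⟩ := CfsgLib.Components.exists_minimal_normal_le
      (N := centralizer (N : Set G)) inferInstance hC1
    haveI := hM
    refine not_commuting hC hNns (not_isSolvable_minimal hS hC hns hO M hM1 hMmin) ?_
    exact fun n hn x hx => (mem_centralizer_iff.1 (hMle hx) n hn).symm

/-- The socle modulo the odd core. -/
theorem exists_socle (hS : AbSylow G) (hC : SolvCent G) (hns : ¬ Group.IsSolvable G) :
    ∃ N : Subgroup (G ⧸ Cfsg.oddCore G), N.Normal ∧ IsSimpleGroup N ∧ ¬ Group.IsSolvable N ∧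
      AbSylow N ∧ SolvCent N ∧
      centralizer (N : Set (G ⧸ Cfsg.oddCore G)) = ⊥ :=
  exists_socle_of_core (abSylow_of_surjective hS _ (QuotientGroup.mk'_surjective _))
    (solvCent_quotient hC)
    (CfsgLib.GW.DGroup.not_isSolvable_quotient (Cfsg.oddCore G)
      (Cfsg.Agent.S0205.result (CfsgLib.GW.DGroup.odd_oddCore G)) hns)
    (CfsgLib.Core.pPrimeCore_quotient_pPrimeCore 2 G)

end CfsgLib.AbelianSolvCent
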