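import Mathlib
import Cfsg.Agent.Lib.OddGated.Metacyclic

/-!
# Abelian 2-groups by rank (S3188)
-/

set_option autoImplicit false
set_option linter.style.haveILetI false

namespace CfsgLib.AbelianSolvCent

variable {S : Type*} [CommGroup S] [Finite S]

/-- A finite abelian 2-group is cyclic, a four group, metacyclic with a big cyclic quotient or has
at least eight elements of square one. -/
theorem abelian_cases (hS : IsPGroup 2 S) :
    IsCyclic S ∨ IsKleinFour S ∨
      (∃ (N : Subgroup S) (_ : N.Normal), IsCyclic N ∧ IsCyclic (S ⧸ N) ∧ 2 < Nat.card (S ⧸ N)) ∨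
      8 ≤ Nat.card {x : S // x * x = 1} := by
  classical
  obtain ⟨ι, hι, n, hn, ⟨e⟩⟩ := CommGroup.equiv_prod_multiplicative_zmod_of_finite S
  haveI : ∀ i, NeZero (n i) := fun i => ⟨by have := hn i; omega⟩
  have hev : ∀ i, 2 ∣ n i := fun i => by
    have h1 : n i ∣ Nat.card S := by
      rw [Nat.card_congr e.toEquiv, Nat.card_pi]
      refine Dvd.dvd.trans ?_ (Finset.dvd_prod_of_mem _ (Finset.mem_univ i))
      rw [Nat.card_congr Multiplicative.toAdd, Nat.card_zmod]
    obtain ⟨k, hk⟩ := IsPGroup.iff_card.mp hS
    obtain ⟨j, -, hj⟩ := (Nat.dvd_prime_pow Nat.prime_two).mp (hk ▸ h1)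
    rcases j with _ | j
    · have := hn i; omega
    · exact hj ▸ dvd_pow_self 2 (by omega)
  rcases Nat.lt_or_ge (Fintype.card ι) 2 with h1 | h2
  · left
    rcases Nat.lt_or_ge (Fintype.card ι) 1 with h0 | h0
    · haveI : IsEmpty ι := Fintype.card_eq_zero_iff.1 (by omega)
      haveI : Subsingleton S := e.toEquiv.subsingleton
      infer_instance
    · obtain ⟨i, hi⟩ := Fintype.card_eq_one_iff.1 (show Fintype.card ι = 1 by omega)
      refine isCyclic_of_surjective
        (e.symm.toMonoidHom.comp (MonoidHom.mulSingle (fun i => Multiplicative (ZMod (n i))) i))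
        fun x => ⟨e x i, ?_⟩
      apply e.injective
      funext j
      obtain rfl := hi j
      simp
  rcases Nat.lt_or_ge (Fintype.card ι) 3 with h3 | h3
  · obtain ⟨ε⟩ : Nonempty (ι ≃ Fin 2) := ⟨Fintype.equivFinOfCardEq (by omega)⟩
    have key : ∀ i j : ι, i ≠ j → 2 < n j →
        ∃ (N : Subgroup S) (_ : N.Normal), IsCyclic N ∧ IsCyclic (S ⧸ N) ∧ 2 < Nat.card (S ⧸ N) := by
      intro i j hij hj
      let f : S →* Multiplicative (ZMod (n j)) :=
        (Pi.evalMonoidHom (fun i => Multiplicative (ZMod (n i))) j).comp e.toMonoidHom
      have hf : Function.Surjective f := fun y =>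
        ⟨e.symm (Pi.mulSingle j y), by simp [f]⟩
      let q := QuotientGroup.quotientKerEquivOfSurjective f hf
      refine ⟨f.ker, inferInstance, ?_, isCyclic_of_surjective q.symm.toMonoidHom q.symm.surjective,
        ?_⟩
      · refine isCyclic_of_injective
          ((Pi.evalMonoidHom (fun i => Multiplicative (ZMod (n i))) i).comp
            (e.toMonoidHom.comp f.ker.subtype)) ((injective_iff_map_eq_one _).2 fun x hx => ?_)
        refine Subtype.ext (e.injective ?_)
        rw [OneMemClass.coe_one, map_one]
        funext k
        have hxj : e (x : S) j = 1 := x.2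
        rcases (show k = i ∨ k = j by
          rcases Fin.exists_fin_two.1 ⟨ε k, rfl⟩ with hk | hk <;>
          rcases Fin.exists_fin_two.1 ⟨ε i, rfl⟩ with hi | hi <;>
          rcases Fin.exists_fin_two.1 ⟨ε j, rfl⟩ with hj' | hj' <;>
          first
            | exact Or.inl (ε.injective (hk.trans hi.symm))
            | exact Or.inr (ε.injective (hk.trans hj'.symm))
            | exact absurd (ε.injective (hi.trans hj'.symm)) hij) with rfl | rfl
        · exact hx
        · exact hxj
      · rwa [Nat.card_congr q.toEquiv, Nat.card_congr Multiplicative.toAdd, Nat.card_zmod]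
    by_cases hbig : ∃ j, 2 < n j
    · obtain ⟨j, hj⟩ := hbig
      obtain ⟨i, hi⟩ := Fintype.exists_ne_of_one_lt_card (by omega) j
      exact Or.inr (Or.inr (Or.inl (key i j hi hj)))
    · push Not at hbig
      have h2n : ∀ i, n i = 2 := fun i => by
        have := hn i
        have := hbig i
        omega
      refine Or.inr (Or.inl ⟨?_, ?_⟩)
      · rw [Nat.card_congr e.toEquiv, Nat.card_pi,
          Finset.prod_congr rfl (fun i _ => by
            rw [Nat.card_congr Multiplicative.toAdd, Nat.card_zmod, h2n i])]
        rw [Finset.prod_const, Finset.card_univ, show Fintype.card ι = 2 by omega]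
        norm_num
      · refine le_antisymm (Nat.le_of_dvd two_pos (Monoid.exponent_dvd_of_forall_pow_eq_one ?_)) ?_
        · intro x
          apply e.injective
          rw [map_pow, map_one]
          funext i
          rw [Pi.pow_apply, Pi.one_apply]
          have hc : Nat.card (Multiplicative (ZMod (n i))) = 2 := by
            rw [Nat.card_congr Multiplicative.toAdd, Nat.card_zmod, h2n i]
          exact hc ▸ pow_card_eq_one'
        · by_contra hlt
          have hpos : 0 < Monoid.exponent S := Monoid.exponent_pos.2
            Monoid.ExponentExists.of_finite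
          have h1 : Monoid.exponent S = 1 := by omega
          haveI : Subsingleton S := Monoid.exp_eq_one_iff.1 h1
          have : Nat.card S = 1 := Nat.card_unique
          rw [Nat.card_congr e.toEquiv, Nat.card_pi,
            Finset.prod_congr rfl (fun i _ => by
              rw [Nat.card_congr Multiplicative.toAdd, Nat.card_zmod, h2n i]),
            Finset.prod_const, Finset.card_univ, show Fintype.card ι = 2 by omega] at this
          norm_num at this
  · refine Or.inr (Or.inr (Or.inr ?_))
    let h : ∀ i, ZMod (n i) := fun i => ((n i / 2 : ℕ) : ZMod (n i))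
    let F : (ι → Bool) → {x : S // x * x = 1} := fun b =>
      ⟨e.symm (fun i => Multiplicative.ofAdd (if b i then h i else 0)), by
        apply e.injective
        rw [map_mul, map_one, e.apply_symm_apply]
        funext i
        rw [Pi.mul_apply, Pi.one_apply, ← ofAdd_add, ofAdd_eq_one]
        rcases b i with _ | _
        · simp
        · simp only [↓reduceIte, h]
          rw [← Nat.cast_add, ← two_mul, Nat.mul_div_cancel' (hev i), ZMod.natCast_self]⟩
    have hne : ∀ i, h i ≠ 0 := fun i e0 => by
      have := hn i
      have h2 := hev i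
      rw [show h i = ((n i / 2 : ℕ) : ZMod (n i)) from rfl, ZMod.natCast_eq_zero_iff] at e0
      have := Nat.le_of_dvd (by omega) e0
      omega
    have hF : Function.Injective F := fun b b' hb => by
      have hb' := e.symm.injective (congrArg Subtype.val hb)
      funext i
      have hi := Multiplicative.ofAdd.injective (congrFun hb' i)
      cases hbi : b i <;> cases hb'i : b' i <;> simp only [hbi, hb'i, Bool.false_eq_true, ↓reduceIte] at hi
      all_goals first | rfl | exact absurd hi (hne i) | exact absurd hi.symm (hne i)
    refine le_trans ?_ (Nat.card_le_card_of_injective F hF)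
    rw [Nat.card_fun, Nat.card_eq_fintype_card, Fintype.card_bool, Nat.card_eq_fintype_card]
    calc 8 = 2 ^ 3 := rfl
      _ ≤ 2 ^ Fintype.card ι := Nat.pow_le_pow_right two_pos h3

end CfsgLib.AbelianSolvCent
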